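import Groth.Agent.H18Et.PullSections
import Groth.Agent.H18Et.Henselian
import Groth.Agent.H18Et.Support
import Groth.Agent.H18Et.PushClosed
import Groth.Agent.H18Et.PushIntegral
import Groth.Agent.H18Ext.MapNatTrans
import Groth.Agent.H9Hens.FinitePartScheme
import Groth.Agent.H15Site.IntDesc.PushH

/-!
# Sheaves vanishing at the closed point of a henselian local scheme have no cohomology
-/

set_option autoImplicit false
set_option linter.style.haveILetI false
set_option linter.unusedSectionVars false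
set_option backward.isDefEq.respectTransparency false
set_option backward.isDefEq.respectTransparency.types false

universe u

open CategoryTheory CategoryTheory.Limits AlgebraicGeometry Opposite CategoryTheory.Abelian
open scoped Groth.Agent.H18Et

namespace Groth.Agent.H15Site.HensCoh

open Groth.Agent.H18Et

/-- Every class of positive degree is killed by an epimorphism to the source. -/
theorem exists_epi_killing {C : Type*} [Category C] [Abelian C] [HasExt.{u + 1} C] [EnoughInjectives C]
    (A : C) : ∀ (n : ℕ) (F : C) (x : Ext A F (n + 1)),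
      ∃ (E : C) (p : E ⟶ A), Epi p ∧ (Ext.mk₀ p).comp x (zero_add (n + 1)) = 0 := by
  intro n
  induction n with
  | zero =>
    intro F x
    have hS := H10Coh.injSeq_shortExact F
    haveI := hS.epi_g
    obtain ⟨ξ, rfl⟩ := Ext.covariant_sequence_exact₁ A hS x (Ext.eq_zero_of_injective _) rfl
    obtain ⟨q, rfl⟩ := (Ext.mk₀_bijective _ _).2 ξ
    refine ⟨pullback q (H10Coh.injSeq F).g, pullback.fst _ _, inferInstance, ?_⟩
    rw [Ext.mk₀_comp_mk₀_assoc, pullback.condition, ← Ext.mk₀_comp_mk₀_assoc, hS.comp_extClass, Ext.comp_zero]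
  | succ n ih =>
    intro F x
    have hS := H10Coh.injSeq_shortExact F
    obtain ⟨ξ, rfl⟩ := Ext.covariant_sequence_exact₁ A hS x (Ext.eq_zero_of_injective _) rfl
    obtain ⟨E, p, hp, e⟩ := ih _ ξ
    exact ⟨E, p, hp, by
      rw [← Ext.comp_assoc (Ext.mk₀ p) ξ hS.extClass (zero_add _) rfl (by omega), e, Ext.zero_comp]⟩

variable {Y : Scheme.{u}}

theorem globalHom_comp {F G : EtCoh.Ab Y} (φ : EtCoh.const Y ℤ ⟶ F) (g : F ⟶ G) :
    PullSections.globalHom Y G (φ ≫ g) = g.hom.app (op (EtCoh.top Y)) (PullSections.globalHom Y F φ) := by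
  unfold PullSections.globalHom
  rw [Adjunction.homAddEquiv_apply, Adjunction.homEquiv_naturality_right]
  rfl

theorem globalHom_injective (F : EtCoh.Ab Y) : Function.Injective (PullSections.globalHom Y F) := fun _ _ h =>
  ((EtCore.constAdj Y).homAddEquiv _ F).injective ((AddCommGrpCat.uliftZMultiplesAddEquiv _).injective h)

theorem globalHom_surjective (F : EtCoh.Ab Y) : Function.Surjective (PullSections.globalHom Y F) := fun s => by
  refine ⟨((EtCore.constAdj Y).homAddEquiv _ F).symm ((AddCommGrpCat.uliftZMultiplesAddEquiv _).symm s), ?_⟩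
  exact (congrArg (AddCommGrpCat.uliftZMultiplesAddEquiv _) (AddEquiv.apply_symm_apply _ _)).trans
    (AddEquiv.apply_symm_apply _ _)

/-- An epimorphism to `ℤ` has, after a finite etale covering `Y'` of a henselian local scheme, a section,
read in the direct image of the inverse image. -/
theorem exists_section_pushPull {Y' : Scheme.{u}} (f : Y' ⟶ Y) [Etale f] {E : EtCoh.Ab Y}
    (p : E ⟶ EtCoh.const Y ℤ) (e₀ : EtCoh.sect E (Scheme.Etale.mk f))
    (he₀ : p.hom.app _ e₀ = (EtCoh.const Y ℤ).obj.map ((EtCore.topIsTerminal Y).from (Scheme.Etale.mk f)).op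
      (PullSections.globalHom Y _ (𝟙 _))) :
    ∃ e : EtCoh.const Y ℤ ⟶ (EtCoh.push f).obj ((EtCoh.pull f).obj E),
      e ≫ (EtCoh.push f).map ((EtCoh.pull f).map p) = (EtCoh.pullPushAdj f).unit.app _ := by
  let W : Y.Etale := Scheme.Etale.mk f
  let δ : (EtCoh.bc f).obj (EtCoh.top Y) ⟶ (EtCoh.bc f).obj W :=
    MorphismProperty.Over.homMk (pullback.lift (pullback.snd (𝟙 Y) f) (pullback.snd (𝟙 Y) f) rfl)
      (pullback.lift_snd _ _ _) trivial
  let η := (EtCoh.pullPushAdj f).unit
  let t : EtCoh.sect ((EtCoh.push f).obj ((EtCoh.pull f).obj E)) (EtCoh.top Y) :=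
    ((EtCoh.pull f).obj E).obj.map δ.op ((η.app E).hom.app (op W) e₀)
  obtain ⟨e, he⟩ := globalHom_surjective _ t
  refine ⟨e, globalHom_injective _ ?_⟩
  rw [globalHom_comp, he]
  conv_rhs => rw [← Category.id_comp ((EtCoh.pullPushAdj f).unit.app _), globalHom_comp]
  have h1 := ConcreteCategory.congr_hom (((EtCoh.pull f).map p).hom.naturality δ.op)
    ((η.app E).hom.app (op W) e₀)
  refine h1.trans ?_
  have h2 : ((EtCoh.pull f).map p).hom.app (op ((EtCoh.bc f).obj W)) ((η.app E).hom.app (op W) e₀) =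
      (η.app (EtCoh.const Y ℤ)).hom.app (op W) (p.hom.app (op W) e₀) :=
    (ConcreteCategory.congr_hom (congr_app (congrArg (fun t => t.hom) (η.naturality p)) (op W)) e₀).symm
  refine (congrArg (((EtCoh.pull f).obj (EtCoh.const Y ℤ)).obj.map δ.op) h2).trans ?_
  rw [he₀]
  have h3 := ConcreteCategory.congr_hom ((η.app (EtCoh.const Y ℤ)).hom.naturality
    ((EtCore.topIsTerminal Y).from W).op) (PullSections.globalHom Y _ (𝟙 _))
  refine (congrArg (((EtCoh.pull f).obj (EtCoh.const Y ℤ)).obj.map δ.op) h3).trans ?_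
  have hδ : δ ≫ (EtCoh.bc f).map ((EtCore.topIsTerminal Y).from W) = 𝟙 _ :=
    (EtCore.bcTopIsTerminal f).hom_ext _ _
  refine (Functor.map_comp_apply _ _ _ _).symm.trans ?_
  show ((EtCoh.pull f).obj (EtCoh.const Y ℤ)).obj.map
    (((EtCoh.bc f).map ((EtCore.topIsTerminal Y).from W)).op ≫ δ.op) _ = _
  rw [← op_comp, hδ, op_id]
  erw [CategoryTheory.Functor.map_id]
  rfl

variable {R : Type u} [CommRing R]

instance isClosedImmersion_closedPt [IsLocalRing R] : IsClosedImmersion (Spec.map (CommRingCat.ofHom (IsLocalRing.residue R))) :=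
  IsClosedImmersion.spec_of_surjective _ IsLocalRing.residue_surjective

variable [HenselianLocalRing R]

local notation "Yh" => Spec (CommRingCat.of R)
local notation "ih" => Spec.map (CommRingCat.ofHom (IsLocalRing.residue R))

/-- Global sections of a sheaf with zero closed stalk vanish. -/
theorem hom_eq_zero {K : EtCoh.Ab Yh} (hK : IsZero ((EtCoh.pull ih).obj K)) (φ : EtCoh.const Yh ℤ ⟶ K) :
    φ = 0 := by
  apply globalHom_injective
  refine Eq.trans ?_ (map_zero ((AddCommGrpCat.uliftZMultiplesAddEquiv _).toAddMonoidHom.comp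
    ((EtCore.constAdj Yh).homAddEquiv _ K).toAddMonoidHom)).symm
  let s := PullSections.globalHom Yh K φ
  let c : Yh := IsLocalRing.closedPoint R
  have hc : c ∉ EtShriek.sectSupp K (EtCoh.top Yh) s := by
    let ξ₀ := geomPt (default : Spec (CommRingCat.of (IsLocalRing.ResidueField R)))
    obtain ⟨z, hz⟩ := exists_fiber_over (U := EtCoh.top Yh) c (ξ₀ ≫ ih) (by
      show (ξ₀ ≫ ih).base default = c
      rw [Scheme.Hom.comp_apply, geomPt_base]
      rw [Subsingleton.elim (default : Spec (CommRingCat.of (IsLocalRing.ResidueField R)))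
        (IsLocalRing.closedPoint (IsLocalRing.ResidueField R))]
      exact IsLocalRing.comap_closedPoint (IsLocalRing.residue R))
    rw [← hz]
    refine (germ_eq_zero_iff K z s).1 ?_
    have := AddCommGrpCat.subsingleton_of_isZero
      (IsZero.of_iso ((EtCoh.stalk ξ₀).map_isZero hK) ((stalkPullIso ih ξ₀).app K).symm)
    exact Subsingleton.elim _ _
  have hempty : EtShriek.sectSupp K (EtCoh.top Yh) s = ∅ := by
    by_contra hne
    obtain ⟨x, hx⟩ := Set.nonempty_iff_ne_empty.2 hne
    exact hc ((IsLocalRing.specializes_closedPoint x).mem_closed (isClosed_sectSupp K _ s) hx)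
  refine sect_ext (F := K) (U := EtCoh.top Yh) s 0 fun Ω _ _ ξ z => ?_
  rw [map_zero]
  exact (germ_eq_zero_iff K z s).2 (by rw [hempty]; exact Set.notMem_empty _)

/-- A finite etale covering over which a section lifts. -/
theorem exists_finite_etale_lift {E F : EtCoh.Ab Yh} (p : E ⟶ F) [Epi p] (s : EtCoh.sect F (EtCoh.top Yh)) :
    ∃ (Y' : Scheme.{u}) (f : Y' ⟶ Yh) (_ : Etale f) (_ : IsFinite f) (_ : Surjective f)
      (e₀ : EtCoh.sect E (Scheme.Etale.mk f)),
      p.hom.app _ e₀ = F.obj.map ((EtCore.topIsTerminal Yh).from (Scheme.Etale.mk f)).op s := by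
  haveI : CategoryTheory.Sheaf.IsLocallySurjective p :=
    (CategoryTheory.Sheaf.isLocallySurjective_iff_epi' AddCommGrpCat.{u + 1} p).2 inferInstance
  have hcov := Presheaf.imageSieve_mem (Yh).smallEtaleTopology p.hom s
  let c : Yh := IsLocalRing.closedPoint R
  obtain ⟨z, hz⟩ := exists_fiber_over (U := EtCoh.top Yh) c (geomPt c) (geomPt_base c)
  obtain ⟨V, g, ⟨e, he⟩, v, hv⟩ := (Scheme.pointSmallEtale (geomPt c)).jointly_surjective _ hcov z
  haveI := V.prop
  obtain ⟨V₀, hV₀, hvV₀, -⟩ := exists_isAffineOpen_mem_and_subset (U := (⊤ : V.left.Opens))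
    (x := ptOf v) trivial
  haveI : IsAffine (V₀ : Scheme.{u}) := hV₀
  let π : (V₀ : Scheme.{u}) ⟶ Yh := V₀.ι ≫ V.hom
  haveI : IsAffineHom π := isAffineHom_of_isAffine π
  haveI : Etale π := inferInstanceAs (Etale (V₀.ι ≫ V.hom))
  haveI := H18Et.locallyQuasiFinite_of_etale π
  obtain ⟨W, -, hWfin, hWfib⟩ := H9Hens.exists_finitePart_scheme π
  let f : (W : Scheme.{u}) ⟶ Yh := W.ι ≫ π
  haveI : Etale f := inferInstanceAs (Etale (W.ι ≫ π))
  have hvc : π ⟨ptOf v, hvV₀⟩ = c := by
    show V.hom (ptOf v) = c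
    have h := (ptOf_map g v).symm.trans (congrArg ptOf hv)
    have h2 : V.hom (ptOf v) = g.left.base (ptOf v) :=
      congrArg (fun q : V.left ⟶ Yh => q.base (ptOf v)) ((Category.comp_id _).symm.trans (Over.w g.hom)).symm
    exact h2.trans (h.trans hz)
  have hsurj : Surjective f := by
    refine ⟨fun y => ?_⟩
    have ho : IsOpen (Set.range f.base) := f.isOpenMap.isOpen_range
    have hcr : c ∈ Set.range f.base := ⟨⟨_, hWfib _ hvc⟩, hvc⟩
    exact (IsLocalRing.specializes_closedPoint y).mem_open ho hcr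
  let a : Scheme.Etale.mk f ⟶ V := MorphismProperty.Over.homMk (W.ι ≫ V₀.ι) (Category.assoc _ _ _) trivial
  refine ⟨_, f, inferInstance, hWfin, hsurj, E.obj.map a.op e, ?_⟩
  rw [NatTrans.naturality_apply p.hom, he, ← Functor.map_comp_apply, ← op_comp,
    (EtCore.topIsTerminal Yh).hom_ext (a ≫ g) _]

/-- The direct image of the inverse image along a finite morphism keeps the closed stalk zero. -/
theorem isZero_pull_pushPull {Y' : Scheme.{u}} (f : Y' ⟶ Yh) [IsFinite f] {K : EtCoh.Ab Yh}
    (hK : IsZero ((EtCoh.pull ih).obj K)) :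
    IsZero ((EtCoh.pull ih).obj ((EtCoh.push f).obj ((EtCoh.pull f).obj K))) := by
  let f' := pullback.snd f ih
  let g' := pullback.fst f ih
  haveI := isIso_baseChange0_of_isIntegralHom f ih f' g' (IsPullback.of_hasPullback f ih) ((EtCoh.pull f).obj K)
  refine IsZero.of_iso ?_ (asIso (EtCoh.baseChange0 f ih f' g' (IsPullback.of_hasPullback f ih).w
    ((EtCoh.pull f).obj K)))
  refine (EtCoh.push f').map_isZero ?_
  exact IsZero.of_iso ((EtCoh.pull f').map_isZero hK)
    (((EtCore.pullComp g' f).symm ≪≫ EtCore.pullCongr (pullback.condition) ≪≫ EtCore.pullComp f' ih).app K)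

/-- The unit along a surjective morphism is a monomorphism. -/
theorem mono_unit {Y' : Scheme.{u}} (f : Y' ⟶ Y) [Surjective f] (K : EtCoh.Ab Y) :
    Mono ((EtCoh.pullPushAdj f).unit.app K) := by
  refine Preadditive.mono_iff_cancel_zero _ |>.2 fun N l hl => ?_
  have hzero : (EtCoh.pull f).map l = 0 := by
    have := congrArg (fun t => (EtCoh.pull f).map t ≫ (EtCoh.pullPushAdj f).counit.app _) hl
    simpa using this
  haveI := pull_preservesFiniteLimits f
  have him : IsZero ((EtCoh.pull f).obj (Abelian.image l)) := by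
    have e1 : (EtCoh.pull f).map (Abelian.factorThruImage l) ≫ (EtCoh.pull f).map (Abelian.image.ι l) = 0 := by
      rw [← Functor.map_comp, Abelian.image.fac, hzero]
    have h2 : (EtCoh.pull f).map (Abelian.image.ι l) = 0 := by
      rw [← cancel_epi ((EtCoh.pull f).map (Abelian.factorThruImage l)), e1, comp_zero]
    exact IsZero.of_mono_eq_zero _ h2
  have hz : IsZero (Abelian.image l) := by
    haveI : Mono (0 : Abelian.image l ⟶ Abelian.image l) := mono_of_stalk _ fun x => by
      obtain ⟨y', hy'⟩ := Surjective.surj (f := f) x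
      refine ⟨_, inferInstance, inferInstance, geomPt y' ≫ f, ?_, fun a b _ => ?_⟩
      · rw [Scheme.Hom.comp_apply, geomPt_base, hy']
      · have := AddCommGrpCat.subsingleton_of_isZero
          (IsZero.of_iso ((EtCoh.stalk (geomPt y')).map_isZero him) ((stalkPullIso f (geomPt y')).app _).symm)
        exact Subsingleton.elim a b
    exact IsZero.of_mono_eq_zero (0 : Abelian.image l ⟶ Abelian.image l) rfl
  rw [← Abelian.image.fac l, hz.eq_of_src (Abelian.image.ι l) 0, comp_zero]

end Groth.Agent.H15Site.HensCoh
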