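import Groth.Agent.H15Site.HensCoh.Basic

/-!
# Cohomology of a henselian local scheme is the cohomology of its closed point
-/

set_option autoImplicit false
set_option linter.style.haveILetI false
set_option linter.unusedSectionVars false
set_option backward.isDefEq.respectTransparency false
set_option backward.isDefEq.respectTransparency.types false
set_option synthInstance.maxHeartbeats 200000

universe u

open CategoryTheory CategoryTheory.Limits AlgebraicGeometry Opposite CategoryTheory.Abelian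
open scoped Groth.Agent.H18Et

namespace Groth.Agent.H15Site.HensCoh

open Groth.Agent.H18Et

theorem mapExactFunctor_id {C : Type*} [Category C] [Abelian C] [HasExt.{u + 1} C] [EnoughInjectives C]
    (X : C) : ∀ (n : ℕ) (Y : C) (x : Ext X Y n), x.mapExactFunctor (𝟭 C) = x := by
  intro n
  induction n with
  | zero =>
    intro Y x
    obtain ⟨φ, rfl⟩ := (Ext.mk₀_bijective X Y).2 x
    rw [Ext.mapExactFunctor_mk₀, Functor.id_map]
  | succ n ih =>
    intro Y x
    have hS := H10Coh.injSeq_shortExact Y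
    obtain ⟨q, rfl⟩ := Ext.covariant_sequence_exact₁ X hS x (Ext.eq_zero_of_injective _) rfl
    rw [Ext.mapExactFunctor_comp, ih, Ext.mapExactFunctor_extClass]

variable {R : Type u} [CommRing R] [HenselianLocalRing R]

local notation "Yh" => Spec (CommRingCat.of R)
local notation "ih" => Spec.map (CommRingCat.ofHom (IsLocalRing.residue R))

/-- A sheaf with zero closed stalk has no cohomology. -/
theorem subsingleton_H (n : ℕ) : ∀ K : EtCoh.Ab Yh, IsZero ((EtCoh.pull ih).obj K) →
    Subsingleton (EtCoh.H Yh K n) := by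
  induction n with
  | zero =>
    intro K hK
    refine subsingleton_of_forall_eq 0 fun x => ?_
    obtain ⟨φ, rfl⟩ := (Ext.mk₀_bijective (EtCoh.const Yh ℤ) K).2 x
    rw [hom_eq_zero hK φ, Ext.mk₀_zero]
  | succ n ihn =>
    intro K hK
    refine subsingleton_of_forall_eq 0 fun (x : Ext (EtCoh.const Yh ℤ) K (n + 1)) => ?_
    obtain ⟨E, p, hp, hpx⟩ := exists_epi_killing (EtCoh.const Yh ℤ) n K x
    obtain ⟨Y', f, hfe, hff, hfs, e₀, he₀⟩ :=
      exists_finite_etale_lift p (PullSections.globalHom Yh _ (𝟙 (EtCoh.const Yh ℤ)))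
    obtain ⟨e, he⟩ := exists_section_pushPull f p e₀ he₀
    haveI := pull_preservesFiniteLimits f
    haveI := IntDesc.preservesFiniteColimits_push f
    haveI : (EtCoh.push f).IsRightAdjoint := ⟨_, ⟨EtCoh.pullPushAdj f⟩⟩
    haveI : PreservesFiniteLimits (EtCoh.push f) := inferInstance
    haveI := mono_unit f K
    let S : ShortComplex (EtCoh.Ab Yh) := ShortComplex.mk ((EtCoh.pullPushAdj f).unit.app K)
      (cokernel.π _) (cokernel.condition _)
    have hS : S.ShortExact :=
      { exact := ShortComplex.exact_of_g_is_cokernel _ (cokernelIsCokernel _)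
        mono_f := by dsimp [S]; infer_instance
        epi_g := by dsimp [S]; infer_instance }
    -- the image of `x` in the direct image of the inverse image vanishes
    have hx : x.comp (Ext.mk₀ S.f) (add_zero (n + 1)) = 0 := by
      let P : EtCoh.Ab Yh ⥤ EtCoh.Ab Yh := EtCoh.pull f ⋙ EtCoh.push f
      have hnt := H18Ext.mapExactFunctor_natTrans (𝟭 (EtCoh.Ab Yh)) (𝟭 (EtCoh.Ab Yh)) P
        ((EtCoh.pullPushAdj f).unit) (EtCoh.const Yh ℤ) (n + 1) K x
      rw [mapExactFunctor_id, mapExactFunctor_id] at hnt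
      refine hnt.trans ?_
      refine (congrArg (fun t => (Ext.mk₀ t).comp (x.mapExactFunctor P) (zero_add (n + 1))) he.symm).trans ?_
      change (Ext.mk₀ (e ≫ P.map p)).comp (x.mapExactFunctor P) (zero_add (n + 1)) = 0
      rw [← Ext.mk₀_comp_mk₀_assoc, ← Ext.mapExactFunctor_mk₀ P p, ← Ext.mapExactFunctor_comp, hpx,
        Ext.mapExactFunctor_zero, Ext.comp_zero]
    -- the cokernel has zero closed stalk
    have hQ : IsZero ((EtCoh.pull ih).obj S.X₃) := by
      haveI := hS.epi_g
      exact IsZero.of_epi ((EtCoh.pull ih).map S.g) (isZero_pull_pushPull f hK)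
    haveI := ihn S.X₃ hQ
    obtain ⟨y, hy⟩ := Ext.covariant_sequence_exact₁ (EtCoh.const Yh ℤ) hS x hx rfl
    have hy0 : y = 0 := Subsingleton.elim (α := EtCoh.H Yh S.X₃ n) y 0
    rw [← hy, hy0, Ext.zero_comp]

/-- The unit of the closed point. -/
noncomputable abbrev η₀ (F : EtCoh.Ab Yh) : F ⟶ (EtCoh.push ih).obj ((EtCoh.pull ih).obj F) :=
  (EtCoh.pullPushAdj ih).unit.app F

theorem isIso_pull_η₀ (F : EtCoh.Ab Yh) : IsIso ((EtCoh.pull ih).map (η₀ F)) := by
  haveI := isIso_counit_of_liftsEtaleUniv (liftsEtaleUniv_of_isClosedImmersion ih) ((EtCoh.pull ih).obj F)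
  exact IsIso.of_isIso_fac_right ((EtCoh.pullPushAdj ih).left_triangle_components F)

theorem isZero_pull_kernel (F : EtCoh.Ab Yh) : IsZero ((EtCoh.pull ih).obj (kernel (η₀ F))) := by
  haveI := pull_preservesFiniteLimits ih
  haveI := isIso_pull_η₀ F
  exact IsZero.of_iso (isZero_kernel_of_mono ((EtCoh.pull ih).map (η₀ F)))
    (PreservesKernel.iso (EtCoh.pull ih) (η₀ F))

theorem isZero_pull_cokernel (F : EtCoh.Ab Yh) : IsZero ((EtCoh.pull ih).obj (cokernel (η₀ F))) := by
  haveI := isIso_pull_η₀ F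
  exact IsZero.of_iso (isZero_cokernel_of_epi ((EtCoh.pull ih).map (η₀ F)))
    (PreservesCokernel.iso (EtCoh.pull ih) (η₀ F))

/-- Comparison of cohomology of `F` and of the direct image of its closed stalk: degree zero. -/
theorem bijective_comp_η₀ (F : EtCoh.Ab Yh) :
    Function.Bijective fun φ : EtCoh.const Yh ℤ ⟶ F => φ ≫ η₀ F := by
  refine ⟨fun φ ψ h => sub_eq_zero.1 ?_, fun χ => ?_⟩
  · have h0 : (φ - ψ) ≫ η₀ F = 0 := by rw [Preadditive.sub_comp]; exact sub_eq_zero.2 h
    rw [← kernel.lift_ι (η₀ F) (φ - ψ) h0, hom_eq_zero (isZero_pull_kernel F) (kernel.lift _ _ h0), zero_comp]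
  · have h1 : χ ≫ cokernel.π (η₀ F) = 0 := hom_eq_zero (isZero_pull_cokernel F) _
    let χ' : EtCoh.const Yh ℤ ⟶ Abelian.image (η₀ F) := kernel.lift _ χ h1
    let S : ShortComplex (EtCoh.Ab Yh) := ShortComplex.mk (kernel.ι (η₀ F)) (Abelian.factorThruImage (η₀ F))
      (by rw [← cancel_mono (Abelian.image.ι (η₀ F)), Category.assoc, Abelian.image.fac, kernel.condition, zero_comp])
    have hS : S.ShortExact :=
      { exact := ShortComplex.exact_of_f_is_kernel _ (KernelFork.IsLimit.ofι' S.f S.zero fun {A} k hk =>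
          ⟨kernel.lift (η₀ F) k (by rw [← Abelian.image.fac (η₀ F), ← Category.assoc, hk, zero_comp]),
            kernel.lift_ι _ _ _⟩)
        mono_f := by dsimp [S]; infer_instance
        epi_g := by dsimp [S]; infer_instance }
    haveI := subsingleton_H 1 _ (isZero_pull_kernel F)
    have h2 : (Ext.mk₀ χ').comp hS.extClass (zero_add 1) = 0 :=
      Subsingleton.elim (α := EtCoh.H Yh (kernel (η₀ F)) 1) _ _
    obtain ⟨z, hz⟩ := Ext.covariant_sequence_exact₃ (EtCoh.const Yh ℤ) hS (Ext.mk₀ χ') (zero_add 1) h2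
    obtain ⟨φ, rfl⟩ := (Ext.mk₀_bijective _ _).2 z
    rw [Ext.mk₀_comp_mk₀] at hz
    refine ⟨φ, ?_⟩
    show φ ≫ η₀ F = χ
    rw [← Abelian.image.fac (η₀ F), ← Category.assoc]
    exact (congrArg (· ≫ Abelian.image.ι (η₀ F)) ((Ext.mk₀_bijective _ _).1 hz)).trans (kernel.lift_ι _ _ _)

/-- The direct image of the closed stalk of an injective sheaf is acyclic. -/
theorem subsingleton_H_pushPull_injective (J : EtCoh.Ab Yh) [Injective J] (n : ℕ) :
    Subsingleton (EtCoh.H Yh ((EtCoh.push ih).obj ((EtCoh.pull ih).obj J)) (n + 1)) := by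
  let S : ShortComplex (EtCoh.Ab Yh) := ShortComplex.mk (kernel.ι (η₀ J)) (Abelian.factorThruImage (η₀ J))
    (by rw [← cancel_mono (Abelian.image.ι (η₀ J)), Category.assoc, Abelian.image.fac, kernel.condition, zero_comp])
  have hS : S.ShortExact :=
    { exact := ShortComplex.exact_of_f_is_kernel _ (KernelFork.IsLimit.ofι' S.f S.zero fun {A} k hk =>
        ⟨kernel.lift (η₀ J) k (by rw [← Abelian.image.fac (η₀ J), ← Category.assoc, hk, zero_comp]),
          kernel.lift_ι _ _ _⟩)
      mono_f := by dsimp [S]; infer_instance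
      epi_g := by dsimp [S]; infer_instance }
  let T : ShortComplex (EtCoh.Ab Yh) :=
    ShortComplex.mk (Abelian.image.ι (η₀ J)) (cokernel.π (η₀ J)) (kernel.condition _)
  have hT : T.ShortExact :=
    { exact := ShortComplex.exact_of_f_is_kernel _ (kernelIsKernel _)
      mono_f := by dsimp [T]; infer_instance
      epi_g := by dsimp [T]; infer_instance }
  haveI := subsingleton_H (n + 1) _ (isZero_pull_cokernel J)
  haveI := subsingleton_H (n + 2) _ (isZero_pull_kernel J)
  refine subsingleton_of_forall_eq 0 fun (x : Ext (EtCoh.const Yh ℤ) T.X₂ (n + 1)) => ?_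
  obtain ⟨y, hy⟩ := Ext.covariant_sequence_exact₂ (EtCoh.const Yh ℤ) hT x
    (Subsingleton.elim (α := EtCoh.H Yh (cokernel (η₀ J)) (n + 1)) _ _)
  obtain ⟨z, hz⟩ := Ext.covariant_sequence_exact₃ (EtCoh.const Yh ℤ) hS (y : Ext (EtCoh.const Yh ℤ) S.X₃ (n + 1))
    (rfl : (n + 1) + 1 = n + 2) (Subsingleton.elim (α := EtCoh.H Yh (kernel (η₀ J)) (n + 2)) _ _)
  have hz0 : z = 0 := Ext.eq_zero_of_injective (I := J) z
  rw [← hy, ← hz, hz0, Ext.zero_comp, Ext.zero_comp]

end Groth.Agent.H15Site.HensCoh
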